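import Groth.Agent.DQPush.Basic
import Groth.Agent.RPushSite.CohIn
import Groth.Agent.RHomCx.CohFive
import Groth.Agent.S0792
import Groth.Agent.S0795
import Groth.Agent.ClSubLib.Support
import Groth.Agent.ClSubLib.AnnIdeal
import Groth.Agent.QC.Support

/-!
`Rf_*` of complexes with coherent cohomology whose support is proper over the base.
-/

set_option autoImplicit false
set_option backward.isDefEq.respectTransparency false
set_option backward.isDefEq.respectTransparency.types false
set_option linter.style.haveILetI false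
set_option maxHeartbeats 1000000

universe u

open CategoryTheory Limits ZeroObject AlgebraicGeometry Pretriangulated DerivedCategory DerivedCategory.TStructure

attribute [local instance] HasDerivedCategory.standard

namespace Groth.Agent.CohProperPush

variable {X S : Scheme.{u}} (f : X ⟶ S)

/-- coherent modules with support proper over the base -/
def cohProper : ObjectProperty X.Modules := fun M => Coh.IsCoh M ∧ ClSub.IsProperOver f (CohB1.support M)

lemma support_subset_of_mono {M N : X.Modules} (i : M ⟶ N) [Mono i] : CohB1.support M ⊆ CohB1.support N := by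
  have h := ClSubLib.support_shortExact (ShortComplex.mk i (cokernel.π i) (cokernel.condition i))
    { exact := ShortComplex.exact_cokernel i }
  rw [h]
  exact Set.subset_union_left

lemma support_subset_of_epi {M N : X.Modules} (p : M ⟶ N) [Epi p] : CohB1.support N ⊆ CohB1.support M := by
  have h := ClSubLib.support_shortExact (ShortComplex.mk (kernel.ι p) p (kernel.condition p))
    { exact := ShortComplex.exact_kernel p }
  rw [h]
  exact Set.subset_union_right

theorem isWeakSerre_isCoh [IsLocallyNoetherian X] :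
    WSerre.IsWeakSerre (fun M : X.Modules => Coh.IsCoh M) := by
  haveI : ObjectProperty.ContainsZero (fun M : X.Modules => Coh.IsCoh M) :=
    ⟨⟨_, isZero_zero _, K0Coh.isCoh_of_isZero (isZero_zero _)⟩⟩
  haveI : ObjectProperty.IsClosedUnderKernels (fun M : X.Modules => Coh.IsCoh M) :=
    ⟨by
      rintro _ ⟨φ, k, hk, hX, hY⟩
      exact K0Coh.isCoh_of_iso ((kernelIsKernel φ).conePointUniqueUpToIso hk)
        (QC.isCoh_of_mono (kernel.ι φ) hX (QC.isQCoh_kernel hX.1 hY.1 φ))⟩
  haveI : ObjectProperty.IsClosedUnderCokernels (fun M : X.Modules => Coh.IsCoh M) :=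
    ⟨by
      rintro _ ⟨φ, k, hk, hX, hY⟩
      exact K0Coh.isCoh_of_iso ((cokernelIsCokernel φ).coconePointUniqueUpToIso hk)
        (QC.isCoh_of_epi hY (QC.isQCoh_cokernel hX.1 hY.1 φ) (cokernel.π φ))⟩
  haveI : ObjectProperty.IsClosedUnderExtensions (fun M : X.Modules => Coh.IsCoh M) :=
    ⟨fun {T} hT h1 h3 => by
      have := hT.mono_f
      have := hT.epi_g
      exact RHomCx.isCoh_of_exact₅ (0 : (0 : X.Modules) ⟶ T.X₁) T.f T.g (0 : T.X₃ ⟶ (0 : X.Modules))
        zero_comp T.zero comp_zero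
        ((ShortComplex.exact_iff_mono _ rfl).2 hT.mono_f) hT.exact ((ShortComplex.exact_iff_epi _ rfl).2 hT.epi_g)
        (K0Coh.isCoh_of_isZero (isZero_zero _)) h1 h3 (K0Coh.isCoh_of_isZero (isZero_zero _))⟩
  constructor

variable [LocallyOfFiniteType f]

theorem isWeakSerre_cohProper [IsLocallyNoetherian X] : WSerre.IsWeakSerre (cohProper f) := by
  haveI := isWeakSerre_isCoh (X := X)
  haveI : ObjectProperty.ContainsZero (cohProper f) :=
    ⟨⟨_, isZero_zero _, K0Coh.isCoh_of_isZero (isZero_zero _), by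
      have : CohB1.support (0 : X.Modules) = ∅ :=
        Set.eq_empty_iff_forall_notMem.2 fun x => (ClSubLib.notMem_support_iff_isZero _ x).2
          ((DerSch.stalkFunctor X x).map_isZero (isZero_zero _))
      rw [this]
      exact ClSubLib.isProperOver_empty f⟩⟩
  haveI : ObjectProperty.IsClosedUnderKernels (cohProper f) :=
    ⟨by
      rintro _ ⟨φ, k, hk, hX, hY⟩
      let e := (kernelIsKernel φ).conePointUniqueUpToIso hk
      have h := K0Coh.isCoh_of_iso e (QC.isCoh_of_mono (kernel.ι φ) hX.1 (QC.isQCoh_kernel hX.1.1 hY.1.1 φ))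
      refine ⟨h, ClSubLib.mono hX.2 (QC.isClosed_support h.2) ?_⟩
      rw [← ClSubLib.support_congr e]
      exact support_subset_of_mono (kernel.ι φ)⟩
  haveI : ObjectProperty.IsClosedUnderCokernels (cohProper f) :=
    ⟨by
      rintro _ ⟨φ, k, hk, hX, hY⟩
      let e := (cokernelIsCokernel φ).coconePointUniqueUpToIso hk
      have h := K0Coh.isCoh_of_iso e (QC.isCoh_of_epi hY.1 (QC.isQCoh_cokernel hX.1.1 hY.1.1 φ) (cokernel.π φ))
      refine ⟨h, ClSubLib.mono hY.2 (QC.isClosed_support h.2) ?_⟩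
      rw [← ClSubLib.support_congr e]
      exact support_subset_of_epi (cokernel.π φ)⟩
  haveI : ObjectProperty.IsClosedUnderExtensions (cohProper f) :=
    ⟨fun {T} hT h1 h3 => by
      have h : Coh.IsCoh T.X₂ := ObjectProperty.prop_X₂_of_shortExact (fun M : X.Modules => Coh.IsCoh M) hT h1.1 h3.1
      exact ⟨h, by rw [ClSubLib.support_shortExact T hT]; exact ClSubLib.isProperOver_union f h1.2 h3.2⟩⟩
  constructor

/-- the higher direct images of a coherent module with proper support vanish in large degrees -/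
theorem exists_vanish [IsNoetherian S] [HasInjectiveResolutions X.Modules] (F : X.Modules) (hF : cohProper f F) :
    ∃ N : ℕ, ∀ p : ℕ, N ≤ p → IsZero ((Coh.Rpush f p).obj F) := by
  obtain ⟨Z, i, hi, hp, G, hGq, hGft, ⟨e⟩⟩ := (S0792.result f F hF.1.1 hF.1.2).1 hF.2
  haveI := hi
  haveI := hp
  haveI := RPushQC.hasInjectiveResolutions Z
  obtain ⟨N, hN⟩ := DQPush.exists_bound (i ≫ f)
  refine ⟨N, fun p hp' => ?_⟩
  obtain ⟨c⟩ := W7Hull.nonempty_rpush_push_iso i f G p
  exact (hN G hGq p hp').of_iso (c.symm ≪≫ (Coh.Rpush f p).mapIso e).symm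

variable [IsNoetherian S] [DCoh.HasRpush f]

theorem main (E : DCoh.D X) (a : ℤ) [E.IsGE a] (hE : DCoh.IsCohD E)
    (hsupp : ∀ i : ℤ, ClSub.IsProperOver f (CohB1.support (DCoh.HD E i))) :
    DCoh.IsCohD ((DCoh.Rpush f).obj E) := by
  haveI : IsLocallyNoetherian X := LocallyOfFiniteType.isLocallyNoetherian f
  haveI := DQPush.hasInj X
  haveI : HasInjectiveResolutions (ModSite.Mod X.sheaf) := DQPush.hasInj X
  haveI : SiteCmp.HasRpushD (ModSite.RMor.ofScheme f) := ‹DCoh.HasRpush f›
  haveI : WSerre.IsWeakSerre (C := ModSite.Mod X.sheaf) (cohProper f) := isWeakSerre_cohProper f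
  haveI : WSerre.IsWeakSerre (C := ModSite.Mod S.sheaf) (fun M : S.Modules => Coh.IsCoh M) := isWeakSerre_isCoh
  exact RPushSite.cohIn_rpush_boundedBelow (ModSite.RMor.ofScheme f) (cohProper f) (fun M : S.Modules => Coh.IsCoh M)
    (fun F hF p => S0795.result f F hF.1 hF.2 p) E a ‹_› (fun i => ⟨hE i, hsupp i⟩)

lemma exists_isLE_ext {T : Triangle (DCoh.D S)} (hT : T ∈ distTriang (DCoh.D S))
    (h₁ : ∃ b : ℤ, T.obj₁.IsLE b) (h₃ : ∃ b : ℤ, T.obj₃.IsLE b) : ∃ b : ℤ, T.obj₂.IsLE b := by
  obtain ⟨b₁, h₁⟩ := h₁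
  obtain ⟨b₃, h₃⟩ := h₃
  refine ⟨max b₁ b₃, (DerivedCategory.isLE_iff _ _).2 fun i hi => ?_⟩
  haveI := h₁
  haveI := h₃
  exact (HomologySequence.exact₂ T hT i).isZero_of_both_zeros
    ((isZero_of_isLE T.obj₁ b₁ i (by omega)).eq_of_src _ _)
    ((isZero_of_isLE T.obj₃ b₃ i (by omega)).eq_of_tgt _ _)

theorem exists_isLE : ∀ (d : ℕ) (M : DCoh.D X) (a : ℤ), M.IsGE a → M.IsLE (a + d - 1) →
    (∀ i, cohProper f (DCoh.HD M i)) → ∃ b : ℤ, ((DCoh.Rpush f).obj M).IsLE b
  | 0, M, a, hge, hle, _ => by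
    haveI : SiteCmp.HasRpushD (ModSite.RMor.ofScheme f) := ‹DCoh.HasRpush f›
    have hz : IsZero M := DerivedCategory.TStructure.t.isZero M (a + ((0 : ℕ) : ℤ) - 1) a (by omega)
    exact ⟨0, (DerivedCategory.isLE_iff _ _).2 fun i _ =>
      (DerivedCategory.homologyFunctor S.Modules i).map_isZero ((SiteCmp.RpushD (ModSite.RMor.ofScheme f)).map_isZero hz)⟩
  | d + 1, M, a, hge, hle, hH => by
    haveI : IsLocallyNoetherian X := LocallyOfFiniteType.isLocallyNoetherian f
    haveI := DQPush.hasInj X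
    haveI : HasInjectiveResolutions (ModSite.Mod X.sheaf) := DQPush.hasInj X
    haveI : SiteCmp.HasRpushD (ModSite.RMor.ofScheme f) := ‹DCoh.HasRpush f›
    let M' := (t.truncGE (a + 1)).obj M
    have hM' : M'.IsGE (a + 1) := HDU.isGE_truncGE M _
    have hf : ∀ i, a + 1 ≤ i →
        IsIso ((DerivedCategory.homologyFunctor X.Modules i).map ((t.truncGEπ (a + 1)).app M)) :=
      fun i hi => HDU.isIso_H_truncGEπ M _ i hi
    obtain ⟨F, g, h, hT, ⟨e⟩⟩ := HDU.exists_fibre ((t.truncGEπ (a + 1)).app M) a hge hM' hf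
    obtain ⟨c, hT'⟩ := RPushSite.exists_rpush_triangle (ModSite.RMor.ofScheme f) _ _ _ hT
    refine exists_isLE_ext hT' ?_ (exists_isLE d M' (a + 1) hM' ?_ fun i => ?_)
    · obtain ⟨N, hN⟩ := exists_vanish f _ (hH a)
      refine ⟨(N : ℤ) + a, (DerivedCategory.isLE_iff _ _).2 fun i hi => ?_⟩
      obtain ⟨p, hp⟩ : ∃ p : ℕ, i - a = (p : ℤ) := ⟨(i - a).toNat, by omega⟩
      refine (hN p (by omega)).of_iso ?_
      exact (((DerivedCategory.homologyFunctor S.Modules 0).shiftIso a (p : ℤ) i (by omega)).app _).symm ≪≫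
        (DerivedCategory.homologyFunctor S.Modules (p : ℤ)).mapIso
          (((RPushSite.shiftIso (ModSite.RMor.ofScheme f) a).app F).symm ≪≫ (DCoh.Rpush f).mapIso e) ≪≫
        (RPushSite.nonempty_homology_single (ModSite.RMor.ofScheme f) _ p).some
    · rw [DerivedCategory.isLE_iff]
      intro i hi
      have := hf i (by omega)
      exact (isZero_of_isLE M (a + ((d + 1 : ℕ) : ℤ) - 1) i (by omega)).of_iso
        (asIso ((DerivedCategory.homologyFunctor X.Modules i).map ((t.truncGEπ (a + 1)).app M))).symm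
    · haveI := isWeakSerre_cohProper f
      rcases le_or_gt (a + 1) i with hi | hi
      · have := hf i hi
        exact (cohProper f).prop_of_iso (asIso ((DerivedCategory.homologyFunctor X.Modules i).map
          ((t.truncGEπ (a + 1)).app M))) (hH i)
      · obtain ⟨Z, hZ, hPZ⟩ := (cohProper f).exists_prop_of_containsZero
        exact (cohProper f).prop_of_iso (hZ.iso (isZero_of_isGE M' (a + 1) i hi)) hPZ

end Groth.Agent.CohProperPush
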