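import Groth.Agent.CohProperPush.Perfect
import Groth.Agent.RHomCx.DualMain
import Groth.Agent.RHomCx.Exists
import Groth.Agent.RHomCx.Main

/-!
`Rf_*` of a perfect complex tensored with a flat coherent module with proper support is perfect.
-/

set_option autoImplicit false
set_option backward.isDefEq.respectTransparency false
set_option backward.isDefEq.respectTransparency.types false
set_option linter.style.haveILetI false
set_option maxHeartbeats 1000000

universe u

open CategoryTheory Limits AlgebraicGeometry TopologicalSpace HomologicalComplex MonoidalCategory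
open scoped TensorProduct

attribute [local instance] HasDerivedCategory.standard

namespace Groth.Agent.CohProperPush

/-- a flat module tensored with a module flat over the base is flat over the base -/
lemma flat_tensor_of_flat {A B : Type u} [CommRing A] [CommRing B] [Algebra A B] (M N : Type u)
    [AddCommGroup M] [Module A M] [Module B M] [IsScalarTower A B M]
    [AddCommGroup N] [Module A N] [Module B N] [IsScalarTower A B N]
    [Module.Flat B M] [Module.Flat A N] : Module.Flat A (M ⊗[B] N) := by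
  rw [Module.Flat.iff_lTensor_injectiveₛ]
  intro P _ _ Q
  let e₁ := TensorProduct.AlgebraTensorModule.assoc A B B M N Q
  let e₂ := TensorProduct.AlgebraTensorModule.assoc A B B M N P
  let i : N ⊗[A] Q →ₗ[B] N ⊗[A] P := TensorProduct.AlgebraTensorModule.lTensor B N Q.subtype
  have hi : Function.Injective (i.lTensor M) :=
    Module.Flat.lTensor_preserves_injective_linearMap i
      (Module.Flat.lTensor_preserves_injective_linearMap Q.subtype Subtype.val_injective)
  have key : ∀ z, e₂ (Q.subtype.lTensor (M ⊗[B] N) z) = i.lTensor M (e₁ z) := fun z => by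
    induction z using TensorProduct.induction_on with
    | zero => simp
    | add a b ha hb => simp [map_add, ha, hb]
    | tmul mn q =>
      induction mn using TensorProduct.induction_on with
      | zero => simp
      | add a b ha hb => simp only [TensorProduct.add_tmul, map_add] at ha hb ⊢; rw [ha, hb]
      | tmul m n => rfl
  intro z w h
  apply e₁.injective
  apply hi
  rw [← key, ← key, h]

variable {X S : Scheme.{u}} (f : X ⟶ S)

lemma flatOver_tensor {M G : X.Modules} {x : X} (hM : FlatMod.IsFlatAt M x) (hG : FlatMod.IsFlatOverAt f G x) :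
    Module.Flat (S.presheaf.stalk (f.base x)) ((DQCoh.stA f x).obj ((KFlat.schB X).flip.obj G |>.obj M)) := by
  let A := S.presheaf.stalk (f.base x)
  let B := X.presheaf.stalk x
  letI : Algebra A B := (f.stalkMap x).hom.toAlgebra
  let Mx := (DerSch.stalkFunctor X x).obj M
  let Gx := (DerSch.stalkFunctor X x).obj G
  letI : Module A Mx := Module.compHom Mx (f.stalkMap x).hom
  letI : Module A Gx := Module.compHom Gx (f.stalkMap x).hom
  haveI : IsScalarTower A B Mx := IsScalarTower.of_algebraMap_smul fun _ _ => rfl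
  haveI : IsScalarTower A B Gx := IsScalarTower.of_algebraMap_smul fun _ _ => rfl
  haveI : Module.Flat B Mx := hM
  haveI : Module.Flat A Gx := hG
  have h := flat_tensor_of_flat (A := A) (B := B) Mx Gx
  let e := (ModuleCat.restrictScalars.{u} (f.stalkMap x).hom).mapIso (KFlat.stTensorIso M G x)
  have h' : Module.Flat A ((ModuleCat.restrictScalars.{u} (f.stalkMap x).hom).obj (Mx ⊗ Gx)) :=
    Module.Flat.of_linearEquiv (M := TensorProduct B Mx Gx)
      { toFun := fun z => z
        invFun := fun z => z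
        map_add' := fun _ _ => rfl
        map_smul' := fun a z => (algebraMap_smul B a (show TensorProduct B Mx Gx from z) :)
        left_inv := fun _ => rfl
        right_inv := fun _ => rfl }
  exact Module.Flat.of_linearEquiv e.toLinearEquiv.symm

/-- restriction of `K ⊗ G` through a strictly perfect model of `K` -/
theorem nonempty_restrict_tR {K : CochainComplex X.Modules ℤ} (hK : DCoh.IsKFlat K) (V : X.Opens)
    {E : CochainComplex (V : Scheme.{u}).Modules ℤ} (hE : DCoh.IsStrictlyPerfect E)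
    (a : DerivedCategory.Q.obj ((DCoh.restrictCx V).obj K) ≅ DerivedCategory.Q.obj E) (G : X.Modules) :
    Nonempty (DerivedCategory.Q.obj ((DCoh.restrictCx V).obj ((KFlat.tR G).obj K)) ≅
      DerivedCategory.Q.obj ((KFlat.tR ((Scheme.Modules.pullback V.ι).obj G)).obj E)) := by
  let R := (Scheme.Modules.pullback V.ι).mapHomologicalComplex (ComplexShape.up ℤ)
  let i₀ : ∀ F : CochainComplex X.Modules ℤ, (DCoh.restrictCx V).obj F ≅ R.obj F := fun F =>
    HomologicalComplex.Hom.isoOfComponents (fun n => (Scheme.Modules.restrictFunctorIsoPullback V.ι).app (F.X n))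
      (fun p q _ => ((Scheme.Modules.restrictFunctorIsoPullback V.ι).hom.naturality (F.d p q)).symm)
  let G' := (Scheme.Modules.pullback V.ι).obj G
  let sG : CochainComplex X.Modules ℤ := (single X.Modules (ComplexShape.up ℤ) 0).obj G
  haveI := KFlat.hasLTensorCx (R.obj sG)
  let e₁ := DerivedCategory.Q.mapIso (i₀ ((KFlat.tR G).obj K) ≪≫ R.mapIso (KFlat.tensSingleIso (KFlat.schB X) K G))
  let e₂ := DerivedCategory.Q.mapIso (KFlat.pullTotIso V.ι K sG)
  let e₃ := (KFlat.ltIso (R.obj sG) (KFlat.isKFlat_pullback V.ι hK)).symm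
  let e₄ := (DCoh.LTensorCx (R.obj sG)).mapIso ((DerivedCategory.Q.mapIso (i₀ K)).symm ≪≫ a)
  let e₅ := KFlat.ltIso (R.obj sG) (DerPerf.isKFlat_of_isStrictlyPerfect hE)
  let e₆ := DerivedCategory.Q.mapIso (((DCoh.tensorCx.obj E)).mapIso
    ((singleMapHomologicalComplex (Scheme.Modules.pullback V.ι) (ComplexShape.up ℤ) 0).app G))
  let e₇ := DerivedCategory.Q.mapIso (KFlat.tensSingleIso (KFlat.schB (V : Scheme.{u})) E G').symm
  exact ⟨e₁ ≪≫ e₂.symm ≪≫ e₃ ≪≫ e₄ ≪≫ e₅ ≪≫ e₆ ≪≫ e₇⟩

/-- near any point, `K ⊗ G` has bounded relative tor amplitude -/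
theorem exists_amp_near {K : CochainComplex X.Modules ℤ} (hK : DCoh.IsKFlat K)
    (hKp : DCoh.IsPerfect (DCoh.toD X K)) (G : X.Modules) (hflat : FlatMod.IsFlatOver f G) (x : X) :
    ∃ (V : X.Opens) (c d : ℤ), x ∈ V ∧ ∀ y ∈ V, DQCoh.RelAmpAt f c d (DCoh.toD X ((KFlat.tR G).obj K)) y := by
  obtain ⟨V, hx, E, hE, ⟨a⟩⟩ := (DerPerf.isPerfect_iff_rep (Iso.refl _)).1 hKp x
  obtain ⟨⟨c, d, hcd⟩, hl⟩ := id hE
  refine ⟨V, c, d, hx, fun y hy => ?_⟩
  let v : ↑(V : Scheme.{u}) := ⟨y, hy⟩
  let R := (Scheme.Modules.pullback V.ι).mapHomologicalComplex (ComplexShape.up ℤ)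
  let i₀ : ∀ F : CochainComplex X.Modules ℤ, (DCoh.restrictCx V).obj F ≅ R.obj F := fun F =>
    HomologicalComplex.Hom.isoOfComponents (fun n => (Scheme.Modules.restrictFunctorIsoPullback V.ι).app (F.X n))
      (fun p q _ => ((Scheme.Modules.restrictFunctorIsoPullback V.ι).hom.naturality (F.d p q)).symm)
  let G' := (Scheme.Modules.pullback V.ι).obj G
  obtain ⟨e⟩ := nonempty_restrict_tR hK V hE a G
  refine (DQCoh.relAmpAt_restrict_iff V ((KFlat.tR G).obj K) c d v).1 (DQCoh.relAmpAt_of_iso e.symm ?_)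
  refine ⟨((DQCoh.stA (V.ι ≫ f) v).mapHomologicalComplex (ComplexShape.up ℤ)).obj ((KFlat.tR G').obj E),
    fun i hi => (DQCoh.stA (V.ι ≫ f) v).map_isZero (((DCoh.tensorRightMod G')).map_isZero (hcd i hi)),
    fun i => ?_, ⟨((DQCoh.stA (V.ι ≫ f) v).mapDerivedCategoryFactors.app _).symm⟩⟩
  refine flatOver_tensor (V.ι ≫ f) (DerPerf.isFlat_of_isFinLocFree (hl i) v) ?_
  rw [DQCoh.isFlatOverAt_iff]
  have h := hflat (V.ι.base v)
  rw [DQCoh.isFlatOverAt_iff] at h
  have e' : (DQCoh.stA (V.ι ≫ f) v).obj G' ≅ (DQCoh.stA f (V.ι.base v)).obj G :=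
    (DQCoh.stA (V.ι ≫ f) v).mapIso ((Scheme.Modules.restrictFunctorIsoPullback V.ι).app G).symm ≪≫
      (DQCoh.stARestrictIso (f := f) V v).app G
  exact (Module.Flat.equiv_iff e'.toLinearEquiv).2 h

/-- **`Rf_*(K ⊗ G)` is perfect.** -/
theorem isPerfect_rpush_tR [IsNoetherian S] [LocallyOfFiniteType f] [DCoh.HasRpush f]
    {K : CochainComplex X.Modules ℤ} (hK : DCoh.IsKFlat K) (hKp : DCoh.IsPerfect (DCoh.toD X K))
    (G : X.Modules) (hG : Coh.IsCoh G) (hflat : FlatMod.IsFlatOver f G)
    (hsupp : ClSub.IsProperOver f (CohB1.support G)) :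
    DCoh.IsPerfect ((DCoh.Rpush f).obj (DCoh.toD X ((KFlat.tR G).obj K))) := by
  haveI : IsLocallyNoetherian X := LocallyOfFiniteType.isLocallyNoetherian f
  let T := (KFlat.tR G).obj K
  let Z := CohB1.support G
  -- stalks away from the support
  have hz : ∀ (n : ℤ) (x : X), x ∉ Z → IsZero ((DerSch.stalkFunctor X x).obj (T.X n)) := fun n x hx =>
    ((tensorLeft ((DerSch.stalkFunctor X x).obj (K.X n))).map_isZero
      ((ClSubLib.notMem_support_iff_isZero G x).1 hx)).of_iso (KFlat.stTensorIso (K.X n) G x).symm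
  have hsub : ∀ i, CohB1.support (DCoh.HD (DCoh.toD X T) i) ⊆ Z := fun i x hx => by
    by_contra hc
    refine (ClSubLib.notMem_support_iff_isZero _ x).2 ?_ hx
    exact (ShortComplex.isZero_homology_of_isZero_X₂ ((T.sc i).map (DerSch.stalkFunctor X x)) (hz i x hc)).of_iso
      ((DerSch.stalkFunctor X x).mapIso (KFlat.hdIso T i) ≪≫
        ((T.sc i).mapHomologyIso (DerSch.stalkFunctor X x)).symm)
  -- coherence
  obtain ⟨D, hD, -, ⟨d⟩⟩ : ∃ D : CochainComplex X.Modules ℤ, DCoh.IsKFlat D ∧ (∀ n, FlatMod.IsFlat (D.X n)) ∧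
      Nonempty (DCoh.toD X D ≅ haveI := KFlat.hasLTensorCx K; haveI := RHomCx.hasRSheafHom K;
        (DCoh.RSheafHom K).obj ((DerivedCategory.singleFunctor X.Modules 0).obj (Coh.structureModule X))) :=
    haveI := KFlat.hasLTensorCx K; haveI := RHomCx.hasRSheafHom K
    KFlat.exists_isKFlat_rep _
  haveI := KFlat.hasLTensorCx K
  haveI := RHomCx.hasRSheafHom K
  haveI := KFlat.hasLTensorCx D
  haveI := RHomCx.hasRSheafHom D
  have hDp : DCoh.IsPerfect (DCoh.toD X D) := DQCoh.perfect_of_iso d.symm (RHomCx.isPerfect_dual K hK hKp)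
  obtain ⟨-, ⟨eD⟩⟩ := RHomCx.nonempty_dual K hK hKp D hD ⟨d⟩ (DCoh.inD X G)
  let eT : DCoh.toD X T ≅ (DCoh.LTensorCx K).obj (DCoh.inD X G) :=
    DerivedCategory.Q.mapIso (KFlat.tensSingleIso (KFlat.schB X) K G ≪≫
      KFlat.swapIso (KFlat.braid X.sheaf) K ((single X.Modules (ComplexShape.up ℤ) 0).obj G)) ≪≫
    (KFlat.ltIsoOfKFlat hK _).symm ≪≫
    (DCoh.LTensorCx K).mapIso ((DerivedCategory.singleFunctorIsoCompQ X.Modules 0).app G).symm
  have hcoh : DCoh.IsCohD (DCoh.toD X T) := fun i => by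
    refine K0Coh.isCoh_of_iso ((DerivedCategory.homologyFunctor _ i).mapIso (eT ≪≫ eD)).symm ?_
    refine RHomCx.prop_RSheafHom_perfect RHomCx.locClass_coh (X := X) inferInstance D hDp _ (fun j => ?_) i
    rcases eq_or_ne j 0 with rfl | hj
    · exact K0Coh.isCoh_of_iso
        ((DerivedCategory.singleFunctorCompHomologyFunctorIso X.Modules 0).app G).symm hG
    · refine K0Coh.isCoh_of_isZero ?_
      rcases lt_or_gt_of_ne hj with hj | hj
      · exact DerivedCategory.isZero_of_isGE _ 0 j hj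
      · exact DerivedCategory.isZero_of_isLE _ 0 j hj
  -- amplitude
  choose V c d' hx hamp using exists_amp_near f hK hKp G hflat
  obtain ⟨hZ, hZpr⟩ := id hsupp
  have hZc : IsCompact Z := by
    haveI : IsProper (ClSubLib.redι Z hZ ≫ f) := hZpr
    haveI : CompactSpace (Scheme.IdealSheafData.vanishingIdeal (⟨Z, hZ⟩ : Closeds X)).subscheme :=
      QuasiCompact.compactSpace_of_compactSpace (ClSubLib.redι Z hZ ≫ f)
    rw [← ClSubLib.range_redι Z hZ]
    exact isCompact_range (ClSubLib.redι Z hZ).continuous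
  obtain ⟨t, ht⟩ := hZc.elim_finite_subcover (fun x : X => (V x : Set X)) (fun x => (V x).2)
    (fun x _ => Set.mem_iUnion.2 ⟨x, hx x⟩)
  obtain ⟨A, hA⟩ := (t.image c).finite_toSet.bddBelow
  obtain ⟨B, hB⟩ := (t.image d').finite_toSet.bddAbove
  have htor : DerSch.HasTorAmplitude f A B T := fun y => by
    refine (torAmplitudeAt_iff f T y).2 ?_
    by_cases hy : y ∈ Z
    · obtain ⟨x, hxt, hyx⟩ := Set.mem_iUnion₂.1 (ht hy)
      exact DQCoh.relAmpAt_widen (hA (Finset.mem_coe.2 (Finset.mem_image_of_mem c hxt)))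
        (hB (Finset.mem_coe.2 (Finset.mem_image_of_mem d' hxt))) (hamp x y hyx)
    · have h0 : ∀ i, IsZero ((((DQCoh.stA f y).mapHomologicalComplex (ComplexShape.up ℤ)).obj T).X i) :=
        fun i => (ModuleCat.restrictScalars.{u} (f.stalkMap y).hom).map_isZero (hz i y hy)
      exact ⟨_, fun i _ => h0 i, fun i => by
        haveI := ModuleCat.subsingleton_of_isZero (h0 i)
        infer_instance, ⟨((DQCoh.stA f y).mapDerivedCategoryFactors.app T).symm⟩⟩
  refine isPerfect_rpush f T hcoh ⟨A, B, fun i hi => ?_⟩ (fun i => ?_) ⟨A, B, htor⟩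
  · refine KFlat.isZero_of_stalks _ fun y => ?_
    obtain ⟨E, hE, -, ⟨eE⟩⟩ := (torAmplitudeAt_iff f T y).1 (htor y)
    have h1 : IsZero ((DerivedCategory.homologyFunctor _ i).obj
        ((DQCoh.stA f y).mapDerivedCategory.obj (DCoh.toD X T))) :=
      ((ShortComplex.isZero_homology_of_isZero_X₂ (E.sc i) (hE i hi)).of_iso
        ((DerivedCategory.homologyFunctorFactors _ i).app E)).of_iso
        ((DerivedCategory.homologyFunctor _ i).mapIso eE.symm)
    have h2 : Subsingleton ((DQCoh.stA f y).obj (DCoh.HD (DCoh.toD X T) i)) :=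
      ModuleCat.subsingleton_of_isZero (h1.of_iso ((DQCoh.homologyDerIso (DQCoh.stA f y) i).app _).symm)
    exact @ModuleCat.isZero_of_subsingleton _ _ _ h2
  · exact ClSubLib.mono hsupp (QC.isClosed_support (hcoh i).2) (hsub i)

end Groth.Agent.CohProperPush
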