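import Groth.Agent.DerPush.Basic
import Groth.Agent.DQPush.OpenBC
import Groth.Agent.KFlat.Pullback
import Groth.Agent.K0Coh.Basic
import Groth.Agent.RelPCS.Push
import Groth.Agent.ClSubLib.Support

/-!
Replacing the source of `Rf_*` by an open subscheme containing the supports of the cohomology sheaves.
-/

set_option autoImplicit false
set_option backward.isDefEq.respectTransparency false
set_option backward.isDefEq.respectTransparency.types false
set_option linter.style.haveILetI false
set_option maxHeartbeats 1000000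

universe u

open CategoryTheory Limits AlgebraicGeometry HomologicalComplex

attribute [local instance] HasDerivedCategory.standard

namespace Groth.Agent.CohProperPush

variable {X Y S : Scheme.{u}}

/-- `Rf_*` on a K-injective complex -/
noncomputable def rpushKInjIso (f : X ⟶ S) [DCoh.HasRpush f] (I : CochainComplex X.Modules ℤ) [I.IsKInjective] :
    (DCoh.Rpush f).obj (DerivedCategory.Q.obj I) ≅
      DerivedCategory.Q.obj (((Scheme.Modules.pushforward f).mapHomologicalComplex (ComplexShape.up ℤ)).obj I) :=
  (DCoh.Rpush f).mapIso ((DerivedCategory.quotientCompQhIso X.Modules).app I).symm ≪≫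
    (@asIso _ _ _ _ ((DerPush.rpushUnit f).app ((HomotopyCategory.quotient _ _).obj I))
      (DerPush.isIso_rpushUnit_app f (I := (HomotopyCategory.quotient _ _).obj I) ‹I.IsKInjective›)).symm ≪≫
    DerivedCategory.Qh.mapIso (((Scheme.Modules.pushforward f).mapHomotopyCategoryFactors (ComplexShape.up ℤ)).app I) ≪≫
    (DerivedCategory.quotientCompQhIso S.Modules).app _

lemma isZero_restrict_of_support {M : X.Modules} (j : Y ⟶ X) [IsOpenImmersion j]
    (h : ∀ y : Y, j.base y ∉ CohB1.support M) : IsZero (M.restrict j) := by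
  refine KFlat.isZero_of_stalks _ fun y => ?_
  have h1 : IsZero ((DerSch.stalkFunctor Y y).obj ((Scheme.Modules.pullback j).obj M)) := by
    refine (ClSubLib.notMem_support_iff_isZero _ y).1 fun hy => ?_
    exact h y (ClSubLib.support_pullback_subset j M hy)
  exact h1.of_iso ((DerSch.stalkFunctor Y y).mapIso ((Scheme.Modules.restrictFunctorIsoPullback j).app M))

/-- push forwards of acyclic K-injective complexes are acyclic -/
lemma acyclic_push_of_kInj (f : X ⟶ S) (I : CochainComplex X.Modules ℤ) [I.IsKInjective] (h : I.Acyclic) :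
    (((Scheme.Modules.pushforward f).mapHomologicalComplex (ComplexShape.up ℤ)).obj I).Acyclic := by
  intro i
  rw [exactAt_iff_isZero_homology, IsZero.iff_id_eq_zero]
  have e := (((Scheme.Modules.pushforward f).mapHomotopy
    (CochainComplex.IsKInjective.homotopyZero (𝟙 I) h))).homologyMap_eq i
  simpa using e

variable (f : X ⟶ S) (U : X.Opens) [DCoh.HasRpush f] [DCoh.HasRpush (U.ι ≫ f)]

/-- **`Rf_* F = R(f|_U)_* (F|_U)`** when the cohomology of `F` is supported in a closed subset of `U`. -/
theorem nonempty_rpush_restrict (F : CochainComplex X.Modules ℤ) (Z : Set X) (hZ : IsClosed Z)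
    (hZU : Z ⊆ (U : Set X)) (hsupp : ∀ i : ℤ, CohB1.support (DCoh.HD (DCoh.toD X F) i) ⊆ Z) :
    Nonempty ((DCoh.Rpush f).obj (DCoh.toD X F) ≅
      (DCoh.Rpush (U.ι ≫ f)).obj (DerivedCategory.Q.obj ((DCoh.restrictCx U).obj F))) := by
  obtain ⟨I, q, hI, hq⟩ := DerPush.exists_kInj_sch F
  let R := Scheme.Modules.restrictFunctor U.ι
  let P := Scheme.Modules.pushforward U.ι
  let adj := Scheme.Modules.restrictAdjunction U.ι
  let IU : CochainComplex (U : Scheme.{u}).Modules ℤ := (R.mapHomologicalComplex (ComplexShape.up ℤ)).obj I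
  haveI hIU : IU.IsKInjective := DQPush.isKInjective_restrict_open U.ι I hI
  let J : CochainComplex X.Modules ℤ := (P.mapHomologicalComplex (ComplexShape.up ℤ)).obj IU
  haveI hJ : J.IsKInjective := KInj.isKInjective_rightAdjoint adj IU hIU
  let η : I ⟶ J :=
    { f := fun n => adj.unit.app (I.X n)
      comm' := fun i j _ => (adj.unit.naturality (I.d i j)).symm }
  let C := CochainComplex.mappingCone η
  let W : X.Opens := ⟨Zᶜ, hZ.isOpen_compl⟩
  have hW : ((DCoh.restrictCx W).obj C).Acyclic := by
    have h1 : ∀ i, IsZero ((I.homology i).restrict W.ι) := fun i => by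
      refine isZero_restrict_of_support W.ι fun y hy => ?_
      let e : DCoh.HD (DCoh.toD X F) i ≅ I.homology i :=
        (DerivedCategory.homologyFunctorFactors X.Modules i).app F ≪≫ @asIso _ _ _ _ (homologyMap q i) inferInstance
      have hy' : W.ι.base y ∈ CohB1.support (DCoh.HD (DCoh.toD X F) i) := by
        by_contra hc
        exact (ClSubLib.notMem_support_iff_isZero _ _).2
          (((ClSubLib.notMem_support_iff_isZero _ _).1 hc).of_iso ((DerSch.stalkFunctor X _).mapIso e.symm)) hy
      exact y.2 (hsupp i hy')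
    have hA : ((DCoh.restrictCx W).obj I).Acyclic := fun i => (exactAt_iff_isZero_homology _ _).2
      ((h1 i).of_iso ((I.sc i).mapHomologyIso (Scheme.Modules.restrictFunctor W.ι)))
    let Q' := (Scheme.Modules.restrictFunctor (U.ι ⁻¹ᵁ W).ι).mapHomologicalComplex (ComplexShape.up ℤ)
    haveI : CochainComplex.IsKInjective (Q'.obj IU) := DQPush.isKInjective_restrict_open (U.ι ⁻¹ᵁ W).ι IU hIU
    have hB' : (Q'.obj IU).Acyclic := fun i => by
      refine (exactAt_iff_isZero_homology _ _).2 ?_
      let e := ((IU.sc i).mapHomologyIso (Scheme.Modules.restrictFunctor (U.ι ⁻¹ᵁ W).ι)) ≪≫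
        (Scheme.Modules.restrictFunctor (U.ι ⁻¹ᵁ W).ι).mapIso ((I.sc i).mapHomologyIso R) ≪≫
        ((Scheme.Modules.restrictFunctorComp (U.ι ⁻¹ᵁ W).ι U.ι).app (I.homology i)).symm ≪≫
        (Scheme.Modules.restrictFunctorCongr (morphismRestrict_ι U.ι W).symm).app (I.homology i) ≪≫
        (Scheme.Modules.restrictFunctorComp (U.ι ∣_ W) W.ι).app (I.homology i)
      exact ((Scheme.Modules.restrictFunctor (U.ι ∣_ W)).map_isZero (h1 i)).of_iso e
    have hB : ((DCoh.restrictCx W).obj J).Acyclic :=
      KFlat.acyclic_of_iso (HomologicalComplex.Hom.isoOfComponents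
        (fun n => ((RelPCS.pushRestrIso U.ι W).app (IU.X n)).symm)
        fun i j _ => ((RelPCS.pushRestrIso U.ι W).inv.naturality (IU.d i j)).symm)
        (acyclic_push_of_kInj (U.ι ∣_ W) _ hB')
    haveI : QuasiIso ((DCoh.restrictCx W).map η) := ⟨fun i => by
      rw [quasiIsoAt_iff_isIso_homologyMap]
      exact ((exactAt_iff_isZero_homology _ _).1 (hA i)).isIso ((exactAt_iff_isZero_homology _ _).1 (hB i)) _⟩
    exact KFlat.acyclic_of_iso (CochainComplex.mappingCone.mapHomologicalComplexIso η _).symm
      (KFlat.mappingCone_acyclic _)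
  have hU : ((DCoh.restrictCx U).obj C).Acyclic := by
    haveI : ∀ n, IsIso (((DCoh.restrictCx U).map η).f n) := fun n => by
      have h := adj.left_triangle_components (I.X n)
      haveI : IsIso (adj.counit.app (R.obj (I.X n))) := inferInstance
      haveI : IsIso (R.map (adj.unit.app (I.X n)) ≫ adj.counit.app (R.obj (I.X n))) := by
        rw [h]; infer_instance
      exact IsIso.of_isIso_comp_right (R.map (adj.unit.app (I.X n))) (adj.counit.app (R.obj (I.X n)))
    haveI : IsIso ((DCoh.restrictCx U).map η) := HomologicalComplex.Hom.isIso_of_components _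
    exact KFlat.acyclic_of_iso (CochainComplex.mappingCone.mapHomologicalComplexIso η _).symm
      (KFlat.mappingCone_acyclic _)
  have hC : C.Acyclic := fun i => by
    refine (exactAt_iff_isZero_homology _ _).2 ?_
    classical
    refine K0Coh.isZero_of_restrict_cover (fun x => if x ∈ U then U else W) (fun x => ?_) fun x => ?_
    · by_cases hx : x ∈ U
      · rw [if_pos hx]; exact hx
      · rw [if_neg hx]; exact fun h => hx (hZU h)
    · by_cases hx : x ∈ U
      · rw [if_pos hx]
        exact ((exactAt_iff_isZero_homology _ _).1 (hU i)).of_iso ((C.sc i).mapHomologyIso (Scheme.Modules.restrictFunctor U.ι)).symm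
      · rw [if_neg hx]
        exact ((exactAt_iff_isZero_homology _ _).1 (hW i)).of_iso ((C.sc i).mapHomologyIso (Scheme.Modules.restrictFunctor W.ι)).symm
  haveI : QuasiIso η := KFlat.quasiIso_of_acyclic_mappingCone _ hC
  haveI := hI
  refine ⟨(DCoh.Rpush f).mapIso (@asIso _ _ _ _ (DerivedCategory.Q.map q) inferInstance ≪≫
    @asIso _ _ _ _ (DerivedCategory.Q.map η) inferInstance) ≪≫ rpushKInjIso f J ≪≫ ?_ ≪≫
    (rpushKInjIso (U.ι ≫ f) IU).symm ≪≫ (DCoh.Rpush (U.ι ≫ f)).mapIso
      (@asIso _ _ _ _ (DerivedCategory.Q.map ((DCoh.restrictCx U).map q)) inferInstance).symm⟩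
  exact DerivedCategory.Q.mapIso (HomologicalComplex.Hom.isoOfComponents
    (fun n => (Scheme.Modules.pushforwardComp U.ι f).app (IU.X n))
    fun i j _ => ((Scheme.Modules.pushforwardComp U.ι f).hom.naturality (IU.d i j)).symm)

end Groth.Agent.CohProperPush
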