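import Groth.Agent.S1118
import Groth.Agent.S1073
import Groth.Agent.DQPush.Basic
import Groth.Agent.DQCoh.RelTor
import Groth.Agent.DQCoh.Tensor
import Groth.Agent.DQCoh.Pullback
import Groth.Agent.KFlat.TorFlat
import Groth.Agent.DRingKP.LTensorCx
import Groth.Agent.DRingKP.TorAmp

/-!
`Rf_*` preserves finite tor amplitude relative to the base.
-/

set_option autoImplicit false
set_option backward.isDefEq.respectTransparency false
set_option backward.isDefEq.respectTransparency.types false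
set_option linter.style.haveILetI false
set_option maxHeartbeats 1000000

universe u

open CategoryTheory Limits AlgebraicGeometry HomologicalComplex MonoidalCategory

attribute [local instance] HasDerivedCategory.standard

namespace Groth.Agent.CohProperPush

section Ring

variable {A : Type u} [CommRing A]

lemma quasiIso_whiskerRight {L L' : DRing.Cx A} (g : L ⟶ L') [QuasiIso g] {P : DRing.Cx A}
    (hP : DRingKP.IsKFlat P) : QuasiIso (g ▷ P) :=
  KFlat.quasiIso_map_app_of_acyclic g P
    ((DRingKP.rflat_iff P).2 hP _ (KFlat.mappingCone_acyclic g))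

lemma isZero_homology_tens {a b : ℤ} {L P : DRing.Cx A} (h : DRing.HasTorAmplitudeIn A a b (DRing.toD L))
    (hP : DRingKP.IsKFlat P) {M : ModuleCat.{u} A}
    (u : P ⟶ (single _ (ComplexShape.up ℤ) 0).obj M) [QuasiIso u] (i : ℤ) (hi : i < a ∨ b < i) :
    IsZero ((L ⊗ P).homology i) := by
  obtain ⟨E, hE, hEf, ⟨e⟩⟩ := h
  obtain ⟨E', s, hs, g, hfac⟩ := DerivedCategory.right_fac e.hom
  haveI : IsIso (DerivedCategory.Q.map g) := by
    have : DerivedCategory.Q.map g = DerivedCategory.Q.map s ≫ e.hom := by rw [hfac]; simp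
    rw [this]; infer_instance
  haveI : QuasiIso s := (DerivedCategory.isIso_Q_map_iff_quasiIso _ s).1 hs
  haveI : QuasiIso g := (DerivedCategory.isIso_Q_map_iff_quasiIso _ g).1 inferInstance
  haveI := quasiIso_whiskerRight g hP
  haveI := quasiIso_whiskerRight s hP
  have hEk : DRingKP.IsKFlat E := DRingKP.isKFlat_of_bounded (b := b) (fun i hi => hE i (Or.inr hi)) hEf
  haveI := quasiIso_whiskerRight u hEk
  have h1 : IsZero ((((KFlat.tens (DRingKP.tB A)).obj E).obj
      ((single _ (ComplexShape.up ℤ) 0).obj M)).homology i) :=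
    (ShortComplex.isZero_homology_of_isZero_X₂ (((DRingKP.tR M).obj E).sc i)
      ((tensorRight M).map_isZero (hE i hi))).of_iso ((homologyFunctor _ _ i).mapIso (DRingKP.tensSingleIso E M))
  exact h1.of_iso
    ((@asIso _ _ _ _ (homologyMap (g ▷ P) i) inferInstance).symm ≪≫
      @asIso _ _ _ _ (homologyMap (s ▷ P) i) inferInstance ≪≫
      (homologyFunctor _ _ i).mapIso (KFlat.swapIso (DRingKP.tBraid A) E P) ≪≫
      @asIso _ _ _ _ (homologyMap (u ▷ E) i) inferInstance ≪≫
      (homologyFunctor _ _ i).mapIso (KFlat.swapIso (DRingKP.tBraid A)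
        ((single _ (ComplexShape.up ℤ) 0).obj M) E))

end Ring

variable {X S : Scheme.{u}} (f : X ⟶ S)

/-- stalks of the pullback of a complex -/
noncomputable def pullStCxIso (x : X) (P : CochainComplex S.Modules ℤ) :
    (KFlat.stCx x).obj (((Scheme.Modules.pullback f).mapHomologicalComplex (ComplexShape.up ℤ)).obj P) ≅
      ((ModuleCat.extendScalars.{u, u, u} (f.stalkMap x).hom).mapHomologicalComplex (ComplexShape.up ℤ)).obj
        ((KFlat.stCx (f.base x)).obj P) :=
  Hom.isoOfComponents (fun n => (KFlat.pullStalkIso f x).app (P.X n))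
    fun i j _ => ((KFlat.pullStalkIso f x).hom.naturality (P.d i j)).symm

/-- `F ⊗ f^*P` has cohomology in the tor amplitude of `F` relative to `f` -/
theorem isZero_homology_tens_pullback {a b : ℤ} {F : CochainComplex X.Modules ℤ}
    (hF : DerSch.HasTorAmplitude f a b F) {P : CochainComplex S.Modules ℤ} (hP : DCoh.IsKFlat P) {G : S.Modules}
    (q : P ⟶ (single S.Modules (ComplexShape.up ℤ) 0).obj G) [QuasiIso q] (i : ℤ) (hi : i < a ∨ b < i) :
    IsZero (((DCoh.tensorCx.obj F).obj
      (((Scheme.Modules.pullback f).mapHomologicalComplex (ComplexShape.up ℤ)).obj P)).homology i) := by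
  refine KFlat.isZero_of_stalks _ fun x => ?_
  let φ := (f.stalkMap x).hom
  let s := f.base x
  let C := (DCoh.tensorCx.obj F).obj (((Scheme.Modules.pullback f).mapHomologicalComplex (ComplexShape.up ℤ)).obj P)
  let Res := ModuleCat.restrictScalars.{u} φ
  let L : DRing.Cx (S.presheaf.stalk s) := (DerSch.stalkCxOver f x).obj F
  let Ps : DRing.Cx (S.presheaf.stalk s) := (KFlat.stCx s).obj P
  let u : Ps ⟶ (single _ (ComplexShape.up ℤ) 0).obj ((DerSch.stalkFunctor S s).obj G) :=
    (KFlat.stCx s).map q ≫ ((singleMapHomologicalComplex (DerSch.stalkFunctor S s) (ComplexShape.up ℤ) 0).app G).hom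
  haveI : QuasiIso u := by
    haveI : QuasiIso ((KFlat.stCx s).map q) := inferInstance
    exact quasiIso_comp _ _
  have h0 : IsZero ((L ⊗ Ps).homology i) :=
    isZero_homology_tens (hF x) ((KFlat.isKFlat_iff_stalks P).1 hP s) u i hi
  let eC : L ⊗ Ps ≅ (Res.mapHomologicalComplex (ComplexShape.up ℤ)).obj ((KFlat.stCx x).obj C) :=
    KFlat.projTotIso φ ((KFlat.stCx x).obj F) Ps ≪≫
      (Res.mapHomologicalComplex (ComplexShape.up ℤ)).mapIso
        (tensorIso (Iso.refl _) (pullStCxIso f x P).symm ≪≫ KFlat.stTotIso x F _)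
  have h1 : IsZero (Res.obj (((KFlat.stCx x).obj C).homology i)) :=
    h0.of_iso (((((KFlat.stCx x).obj C).sc i).mapHomologyIso Res).symm ≪≫ (homologyFunctor _ _ i).mapIso eC.symm)
  have h2 : Subsingleton (((KFlat.stCx x).obj C).homology i : ModuleCat.{u} (X.presheaf.stalk x)) :=
    (ModuleCat.subsingleton_of_isZero h1 :)
  exact (@ModuleCat.isZero_of_subsingleton _ _ _ h2).of_iso ((C.sc i).mapHomologyIso (DerSch.stalkFunctor X x)).symm

/-- **`Rf_*` and relative tor amplitude.** -/
theorem exists_torAmplitude [CompactSpace S] [QuasiSeparatedSpace S] [QuasiCompact f] [QuasiSeparated f]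
    [DCoh.HasRpush f] (F : CochainComplex X.Modules ℤ) (hq : DCoh.IsQCohD (DCoh.toD X F)) {a b : ℤ}
    (hF : DerSch.HasTorAmplitude f a b F) :
    ∃ b' : ℤ, a ≤ b' ∧ DCoh.HasTorAmplitudeIn a b' ((DCoh.Rpush f).obj (DCoh.toD X F)) := by
  obtain ⟨N, hN⟩ := DQPush.exists_amplitude f
  refine ⟨max a (b + N), le_max_left _ _, ?_⟩
  refine (S1073.result S _ (DQPush.isQCohD_rpush f hq) a _ (le_max_left _ _)).2 fun G hG hT i hi => ?_
  let sG : CochainComplex S.Modules ℤ := (single S.Modules (ComplexShape.up ℤ) 0).obj G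
  haveI : sG.IsStrictlyLE 0 := (CochainComplex.isStrictlyLE_iff sG 0).2 fun i hi =>
    isZero_single_obj_X (ComplexShape.up ℤ) 0 G i (by omega)
  obtain ⟨P, q, hP, -, hq', -⟩ := KFlat.exists_resolution_le_sch sG 0
  have hPq : DCoh.IsQCohD (DCoh.toD S P) := fun j => by
    haveI := hq'
    let e : DCoh.HD (DCoh.toD S P) j ≅ sG.homology j :=
      KFlat.hdIso P j ≪≫ @asIso _ _ _ _ (homologyMap q j) inferInstance
    rcases eq_or_ne j 0 with rfl | hj
    · exact QC.isQCoh_of_iso ((singleObjHomologySelfIso (ComplexShape.up ℤ) 0 G).symm ≪≫ e.symm) hG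
    · exact DQCoh.isQCoh_of_isZero (((exactAt_iff_isZero_homology _ _).1
        (exactAt_single_obj (ComplexShape.up ℤ) 0 G j hj)).of_iso e)
  let M := ((Scheme.Modules.pullback f).mapHomologicalComplex (ComplexShape.up ℤ)).obj P
  haveI := KFlat.hasLpull f
  let eM : DCoh.toD X M ≅ (DCoh.Lpull f).obj (DCoh.toD S P) :=
    (KFlat.evalIso (KFlat.kFlatAcyclic_pullback f) (DCoh.Lpull f)
      ((DCoh.pullKh f).totalLeftDerivedCounit DerivedCategory.Qh
        (HomotopyCategory.quasiIso S.Modules (ComplexShape.up ℤ))) hP).symm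
  haveI := KFlat.hasLTensorCx P
  haveI := KFlat.hasLTensorCx M
  obtain ⟨pf⟩ := S1118.result f (DCoh.toD X F) hq P hPq M ⟨eM⟩
  have hM : DCoh.IsKFlat M := KFlat.isKFlat_pullback f hP
  let D : DCoh.D X := (DCoh.LTensorCx M).obj (DCoh.toD X F)
  have hDq : DCoh.IsQCohD D := DQCoh.isQCohD_LTensorCx M
    (fun j => QC.isQCoh_of_iso ((DerivedCategory.homologyFunctor X.Modules j).mapIso eM).symm
      (DQCoh.isQCohD_Lpull f _ hPq j)) _ hq
  have hDz : ∀ j : ℤ, j < a ∨ b < j → IsZero (DCoh.HD D j) := fun j hj => by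
    haveI := hq'
    exact (isZero_homology_tens_pullback f hF hP q j hj).of_iso
      ((DerivedCategory.homologyFunctor X.Modules j).mapIso (KFlat.ltIsoOfKFlat hM F) ≪≫ KFlat.hdIso _ j)
  haveI : D.IsGE a := (DerivedCategory.isGE_iff D a).2 fun j hj => hDz j (Or.inl hj)
  haveI : D.IsLE b := (DerivedCategory.isLE_iff D b).2 fun j hj => hDz j (Or.inr hj)
  have hz : IsZero (DCoh.HD ((DCoh.Rpush f).obj D) i) := by
    rcases hi with hi | hi
    · haveI := DQPush.isGE_rpush f D a
      exact DerivedCategory.isZero_of_isGE _ a i hi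
    · exact hN D hDq b inferInstance i (by omega)
  obtain ⟨R, hR, -, ⟨eR⟩⟩ := KFlat.exists_isKFlat_rep ((DCoh.Rpush f).obj (DCoh.toD X F))
  haveI := hq'
  haveI := KFlat.quasiIso_map_app_sch R hR q
  let eT : ((KFlat.tR G).obj R).homology i ≅ ((DCoh.tensorCx.obj R).obj P).homology i :=
    (homologyFunctor _ _ i).mapIso (KFlat.tensSingleIso (KFlat.schB S) R G ≪≫
      (KFlat.swapIso (KFlat.braid S.sheaf) R ((single S.Modules (ComplexShape.up ℤ) 0).obj G))) ≪≫
    (@asIso _ _ _ _ (homologyMap ((DCoh.tensorCx.map q).app R) i) inferInstance).symm ≪≫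
    (homologyFunctor _ _ i).mapIso (KFlat.swapIso (KFlat.braid S.sheaf) P R)
  refine hz.of_iso ?_
  exact (DerivedCategory.homologyFunctor S.Modules i).mapIso ((DCoh.LTensorMod G).mapIso eR.symm ≪≫
      KFlat.lTensorModIso G hR) ≪≫ KFlat.hdIso _ i ≪≫ eT ≪≫ (KFlat.hdIso _ i).symm ≪≫
    (DerivedCategory.homologyFunctor S.Modules i).mapIso
      ((KFlat.ltIsoOfKFlat hP R).symm ≪≫ (DCoh.LTensorCx P).mapIso eR ≪≫ pf)

end Groth.Agent.CohProperPush
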