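import Groth.Agent.CohProperPush.Basic
import Groth.Agent.CohProperPush.SuppRed
import Groth.Agent.CohProperPush.TorPush
import Groth.Agent.DQCoh.PerfCrit
import Groth.Agent.DQCoh.PCNoeth

/-!
`Rf_*` of coherent complexes of finite tor dimension with proper support is perfect.
-/

set_option autoImplicit false
set_option backward.isDefEq.respectTransparency false
set_option backward.isDefEq.respectTransparency.types false
set_option linter.style.haveILetI false
set_option maxHeartbeats 1000000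

universe u

open CategoryTheory Limits AlgebraicGeometry TopologicalSpace

attribute [local instance] HasDerivedCategory.standard

namespace Groth.Agent.CohProperPush

variable {X S : Scheme.{u}} (f : X ⟶ S)

lemma torAmplitudeAt_iff {a b : ℤ} (F : CochainComplex X.Modules ℤ) (x : X) :
    DerSch.HasTorAmplitudeAt f a b F x ↔ DQCoh.RelAmpAt f a b (DCoh.toD X F) x :=
  ⟨fun h => DRingKP.amp_of_iso ((DQCoh.stA f x).mapDerivedCategoryFactors.app F).symm h,
    fun h => DRingKP.amp_of_iso ((DQCoh.stA f x).mapDerivedCategoryFactors.app F) h⟩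

theorem isPerfect_rpush [IsNoetherian S] [LocallyOfFiniteType f] [DCoh.HasRpush f]
    (F : CochainComplex X.Modules ℤ) (hcoh : DCoh.IsCohD (DCoh.toD X F))
    (hbdd : ∃ a b : ℤ, ∀ i : ℤ, (i < a ∨ b < i) → IsZero (DCoh.HD (DCoh.toD X F) i))
    (hsupp : ∀ i : ℤ, ClSub.IsProperOver f (CohB1.support (DCoh.HD (DCoh.toD X F) i)))
    (htor : DerSch.HasFiniteTorAmplitude f F) : DCoh.IsPerfect ((DCoh.Rpush f).obj (DCoh.toD X F)) := by
  haveI : IsLocallyNoetherian X := LocallyOfFiniteType.isLocallyNoetherian f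
  obtain ⟨a, b, hab⟩ := hbdd
  haveI hge : (DCoh.toD X F).IsGE a := (DerivedCategory.isGE_iff _ a).2 fun i hi => hab i (Or.inl hi)
  haveI hle : (DCoh.toD X F).IsLE b := (DerivedCategory.isLE_iff _ b).2 fun i hi => hab i (Or.inr hi)
  let Z : Set X := ⋃ i : Finset.Icc a b, CohB1.support (DCoh.HD (DCoh.toD X F) i.1)
  have hZp : ClSub.IsProperOver f Z := ClSubLib.isProperOver_iUnion f _ _ fun i => hsupp i.1
  obtain ⟨hZ, hZpr⟩ := hZp
  have hsub : ∀ i, CohB1.support (DCoh.HD (DCoh.toD X F) i) ⊆ Z := fun i x hx => by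
    by_cases hi : i < a ∨ b < i
    · exact absurd hx ((ClSubLib.notMem_support_iff_isZero _ x).2 ((DerSch.stalkFunctor X x).map_isZero (hab i hi)))
    · exact Set.mem_iUnion.2 ⟨⟨i, Finset.mem_Icc.2 (by omega)⟩, hx⟩
  have hZc : IsCompact Z := by
    haveI : IsProper (ClSubLib.redι Z hZ ≫ f) := hZpr
    haveI : CompactSpace (Scheme.IdealSheafData.vanishingIdeal (⟨Z, hZ⟩ : Closeds X)).subscheme :=
      QuasiCompact.compactSpace_of_compactSpace (ClSubLib.redι Z hZ ≫ f)
    rw [← ClSubLib.range_redι Z hZ]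
    exact isCompact_range (ClSubLib.redι Z hZ).continuous
  obtain ⟨t, ht⟩ := hZc.elim_finite_subcover (fun V : X.affineOpens => (V.1 : Set X)) (fun V => V.1.isOpen)
    (fun x _ => by
      obtain ⟨_, ⟨(V : X.Opens), hV, rfl⟩, hxV, -⟩ :=
        X.isBasis_affineOpens.exists_subset_of_mem_open (Set.mem_univ x) isOpen_univ
      exact Set.mem_iUnion.2 ⟨⟨V, hV⟩, hxV⟩)
  let U : X.Opens := ⨆ V ∈ t, (V : X.affineOpens).1
  have hUc : IsCompact (U : Set X) := by
    simp only [U, Opens.coe_iSup]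
    exact t.isCompact_biUnion fun V _ => V.2.isCompact
  have hZU : Z ⊆ (U : Set X) := by
    simpa only [U, Opens.coe_iSup] using ht
  haveI : CompactSpace (U : Scheme.{u}) := isCompact_iff_compactSpace.1 hUc
  haveI : IsLocallyNoetherian (U : Scheme.{u}) := LocallyOfFiniteType.isLocallyNoetherian (U.ι ≫ f)
  haveI : IsNoetherian (U : Scheme.{u}) := {}
  haveI : QuasiCompact (U.ι ≫ f) := inferInstance
  haveI : QuasiSeparated (U.ι ≫ f) := inferInstance
  haveI := DerPush.hasRpush_sch (U.ι ≫ f)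
  obtain ⟨e⟩ := nonempty_rpush_restrict f U F Z hZ hZU hsub
  let F' := (DCoh.restrictCx U).obj F
  have hq' : DCoh.IsQCohD (DCoh.toD _ F') := fun i =>
    QC.isQCoh_of_iso (((DQCoh.homologyDerIso (Scheme.Modules.restrictFunctor U.ι) i).app (DCoh.toD X F)).symm ≪≫
      (DerivedCategory.homologyFunctor _ i).mapIso
        ((Scheme.Modules.restrictFunctor U.ι).mapDerivedCategoryFactors.app F))
      (QC.isQCoh_restrict U.ι (hcoh i).1)
  obtain ⟨a', b', htor⟩ := htor
  have htor' : DerSch.HasTorAmplitude (U.ι ≫ f) a' b' F' := fun v =>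
    (torAmplitudeAt_iff _ F' v).2 ((DQCoh.relAmpAt_restrict_iff U F a' b' v).2 ((torAmplitudeAt_iff f F _).1 (htor _)))
  obtain ⟨B, haB, hB⟩ := exists_torAmplitude (U.ι ≫ f) F' hq' htor'
  have hflat := KFlat.flatAmplitude_of_torAmplitude _ a' B haB hB
  have hcohR : DCoh.IsCohD ((DCoh.Rpush (U.ι ≫ f)).obj (DCoh.toD _ F')) := fun i =>
    K0Coh.isCoh_of_iso ((DerivedCategory.homologyFunctor S.Modules i).mapIso e)
      (main f (DCoh.toD X F) a hcoh hsupp i)
  obtain ⟨c, hc⟩ := exists_isLE f (b + 1 - a).toNat (DCoh.toD X F) a hge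
    (DerivedCategory.TStructure.t.isLE_of_le (DCoh.toD X F) b _ (by omega)) (fun i => ⟨hcoh i, hsupp i⟩)
  haveI := hc
  have hp : DCoh.IsPseudoCoherentD (a' - 1) ((DCoh.Rpush (U.ι ≫ f)).obj (DCoh.toD _ F')) :=
    (DQCoh.pc_iff_isCoh _ (DQPush.isQCohD_rpush _ hq') (a' - 1)).2 ⟨fun i _ => hcohR i, c,
      DerivedCategory.TStructure.t.isLE_of_iso e c⟩
  have := DQCoh.isPerfect_of_amp_pc haB hflat hp
  exact DQCoh.perfect_of_iso e.symm this

end Groth.Agent.CohProperPush
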